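import Groth.Agent.LieBracketLib.Points

/-!
The group of tangent vectors of a group scheme is a Lie algebra.
-/

set_option autoImplicit false
set_option synthInstance.maxSize 512

noncomputable section

universe u

open CategoryTheory Limits AlgebraicGeometry MonoidalCategory CartesianMonoidalCategory
open Groth.Agent
open scoped MonObj commutatorElement

namespace LieBracketLib

variable {B : Type u} [CommRing B] {S : Scheme.{u}} (f : Spec (CommRingCat.of B) ⟶ S)
variable {C : Type u} [CommRing C] [Algebra B C]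
variable (G : Over S) [GrpObj G]

/-- The bracket. -/
def br (x y : LieS.Lie G B f) : LieS.Lie G B f := (exists_bracket f G x y).choose

theorem br_spec (x y : LieS.Lie G B f) : LieS.IsBracket G B f x y (br f G x y) :=
  (exists_bracket f G x y).choose_spec

variable (B) in
/-- The map out of the iterated dual numbers given by two elements of square zero. -/
def dHom2 (c d : Sq C) : LieS.D2 B →ₐ[B] C where
  toFun w := dHom B c w.fst + dHom B c w.snd * d.1
  map_one' := by simp
  map_mul' x y := by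
    simp only [TrivSqZeroExt.fst_mul, DualNumber.snd_mul, map_mul, map_add]
    linear_combination (-(dHom B c x.snd * dHom B c y.snd)) * d.2
  map_zero' := by simp
  map_add' x y := by
    simp only [TrivSqZeroExt.fst_add, TrivSqZeroExt.snd_add, map_add]
    ring
  commutes' b := by simp [dHom_apply, TrivSqZeroExt.algebraMap_eq_inl']

theorem dHom2_e₁ (c d : Sq C) : (sqMap (dHom2 B c d) (e₁ (B := B))).1 = c.1 := by
  simp [sqMap, dHom2, dHom_apply, e₁]

theorem dHom2_e₂ (c d : Sq C) : (sqMap (dHom2 B c d) (e₂ (B := B))).1 = d.1 := by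
  simp [sqMap, dHom2, dHom_apply, e₂]

theorem sqMul_comm (c d : Sq C) : (sqMul c.1 d).1 = (sqMul d.1 c).1 := mul_comm _ _

theorem comm_P (c d : Sq C) (x y : LieS.Lie G B f) :
    ⁅P f G d x, P f G c y⁆ = P f G (sqMul d.1 c) (br f G x y) := by
  have h := congrArg (fun t => amap f (dHom2 B c d) ≫ t) ((isBracket_iff f G x y _).1 (br_spec f G x y))
  simp only [commutatorElement_def, MonObj.comp_mul, GrpObj.comp_inv, amap_P] at h
  rw [P_congr f G (c := sqMap (dHom2 B c d) (e₁ (B := B))) (c' := c) (dHom2_e₁ c d),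
    P_congr f G (c := sqMap (dHom2 B c d) (e₂ (B := B))) (c' := d) (dHom2_e₂ c d)] at h
  rw [commutatorElement_def, ← h]
  refine P_congr f G ?_ _
  show dHom2 B c d ((e₁ (B := B)).1 * (e₂ (B := B)).1) = d.1 * c.1
  rw [map_mul]
  show (sqMap (dHom2 B c d) (e₁ (B := B))).1 * (sqMap (dHom2 B c d) (e₂ (B := B))).1 = d.1 * c.1
  rw [dHom2_e₁, dHom2_e₂, mul_comm]

theorem commute_P (c d : Sq C) (h : d.1 * c.1 = 0) (x y : LieS.Lie G B f) :
    Commute (P f G d x) (P f G c y) := by
  rw [← commutatorElement_eq_one_iff_commute, comm_P, P_zero f G _ h]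

theorem xv_injective : Function.Injective (xv f G) := fun _ _ h => Subtype.ext h

theorem mul_comm_lie (x y : LieS.Lie G B f) : x * y = y * x := by
  apply xv_injective f G
  rw [xv_mul, xv_mul, ← P_eps0, ← P_eps0]
  exact commute_P f G eps0 eps0 DualNumber.eps_mul_eps x y

/-- The diagonal of the axes. -/
def diagAx : DualNumber B →ₐ[B] TrivSqZeroExt B (B × B) :=
  TrivSqZeroExt.map (LinearMap.prod LinearMap.id LinearMap.id)

/-- The retraction of the iterated dual numbers. -/
def ret2 : LieS.D2 B →ₐ[B] B where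
  toFun w := w.fst.fst
  map_one' := rfl
  map_mul' x y := by simp
  map_zero' := rfl
  map_add' x y := rfl
  commutes' b := by simp [TrivSqZeroExt.algebraMap_eq_inl']

theorem P_e₁e₂_injective {x y : LieS.Lie G B f}
    (h : P f G (sqMul (e₁ (B := B)).1 (e₂ (B := B))) x = P f G (sqMul (e₁ (B := B)).1 (e₂ (B := B))) y) : x = y := by
  refine P_injective f G _ (ret2 (B := B)) ?_ (fun t ht => ?_) h
  · show ((e₁ (B := B)).1 * (e₂ (B := B)).1).fst.fst = 0
    simp [e₁, e₂]
  · simpa [sqMul, e₁, e₂, TrivSqZeroExt.algebraMap_eq_inl'] using congrArg (fun w : LieS.D2 B => w.snd.snd) ht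

theorem br_self (x : LieS.Lie G B f) : br f G x x = 1 := by
  refine P_e₁e₂_injective f G ?_
  rw [P_one, P_congr f G (c' := sqMul (e₂ (B := B)).1 (e₁ (B := B))) (sqMul_comm _ _), ← comm_P,
    commutatorElement_eq_one_iff_commute]
  let σ : LieS.D2 B →ₐ[B] LieS.D2 B := dHom2 B (e₂ (B := B)) (e₁ (B := B))
  let Pr : opt f (LieS.D2 B) ⟶ G := P f G (e₁ (B := B)) x * P f G (e₂ (B := B)) x
  let E := RingHom.eqLocus σ.toRingHom (RingHom.id (LieS.D2 B))
  have hmem : ∀ a : LieS.D2 B, a ∈ E ↔ a.fst.snd = a.snd.fst := fun a => by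
    change σ a = a ↔ _
    constructor
    · intro h
      simpa [σ, dHom2, dHom_apply, e₁, e₂, TrivSqZeroExt.algebraMap_eq_inl'] using
        (congrArg (fun w : LieS.D2 B => w.fst.snd) h).symm
    · intro h
      refine TrivSqZeroExt.ext (TrivSqZeroExt.ext ?_ ?_) (TrivSqZeroExt.ext ?_ ?_) <;>
        simp [σ, dHom2, dHom_apply, e₁, e₂, TrivSqZeroExt.algebraMap_eq_inl', h]
  let F : PushLib.FibSq E (DualNumber B) (LieS.D2 B) (TrivSqZeroExt B (B × B)) :=
    { u := (TrivSqZeroExt.fstHom B (DualNumber B) (DualNumber B)).toRingHom.comp E.subtype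
      v := E.subtype
      q := diagAx.toRingHom
      p := pAxes.toRingHom
      w := fun a => by
        have h := (hmem a.1).1 a.2
        change diagAx a.1.fst = pAxes a.1
        ext <;> simp [diagAx, pAxes, h]
      surj := pAxes_surjective
      inj := fun a b _ h => Subtype.ext h
      lift := fun b a h => by
        change diagAx b = pAxes a at h
        have h1 : b.fst = a.fst.fst := by simpa [diagAx, pAxes] using congrArg TrivSqZeroExt.fst h
        have h2 : b.snd = a.fst.snd := by simpa [diagAx, pAxes] using congrArg (fun w => (TrivSqZeroExt.snd w).1) h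
        have h3 : b.snd = a.snd.fst := by simpa [diagAx, pAxes] using congrArg (fun w => (TrivSqZeroExt.snd w).2) h
        refine ⟨⟨a, (hmem a).2 (h2.symm.trans h3)⟩, ?_, rfl⟩
        exact TrivSqZeroExt.ext h1.symm h2.symm }
  have hax : amap f diagAx ≫ xv f G x = amap f pAxes ≫ Pr := by
    refine axis_ext f _ _ ?_ ?_
    · rw [← P_eps0, ← Category.assoc, amap_comp, ← Category.assoc, amap_comp, MonObj.comp_mul, amap_P, amap_P,
        amap_P, P_zero f G _ (fst_e₂ (B := B)), _root_.mul_one]
      refine P_congr f G ?_ _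
      ext <;> simp [sqMap, eps0, diagAx, axisMap, pAxes, e₁]
    · rw [← P_eps0, ← Category.assoc, amap_comp, ← Category.assoc, amap_comp, MonObj.comp_mul, amap_P, amap_P,
        amap_P, P_zero f G _ (snd_e₁ (B := B)), _root_.one_mul]
      refine P_congr f G ?_ _
      ext <;> simp [sqMap, eps0, diagAx, axisMap, pAxes, e₂]
  obtain ⟨k, -, hk⟩ := F.exists_desc (xv f G x).left Pr.left (congrArg Over.Hom.left hax)
  have hσ : amap f σ ≫ Pr = Pr := by
    ext1
    rw [Over.comp_left, amap_left, ← hk, ← Category.assoc]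
    refine congrArg (fun t => t ≫ k) ?_
    refine (LieS.specMap_comp _ _).trans (congrArg (fun φ => Spec.map (CommRingCat.ofHom φ)) ?_)
    exact RingHom.ext fun a => a.2
  rw [MonObj.comp_mul, amap_P, amap_P, P_congr f G (c := sqMap σ (e₁ (B := B))) (c' := e₂ (B := B)) (dHom2_e₁ _ _),
    P_congr f G (c := sqMap σ (e₂ (B := B))) (c' := e₁ (B := B)) (dHom2_e₂ _ _)] at hσ
  exact hσ

theorem br_mul_right (x y y' : LieS.Lie G B f) : br f G x (y * y') = br f G x y * br f G x y' := by
  refine P_e₁e₂_injective f G ?_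
  rw [P_mul, P_congr f G (c' := sqMul (e₂ (B := B)).1 (e₁ (B := B))) (sqMul_comm _ _), ← comm_P, P_mul,
    commutatorElement_mul_right_eq_mul_conj, comm_P, comm_P, mul_assoc, mul_assoc]
  have hc : Commute (P f G (e₁ (B := B)) y) (P f G (sqMul (e₂ (B := B)).1 (e₁ (B := B))) (br f G x y')) :=
    commute_P f G _ _ (by simp only [sqMul]; linear_combination (e₂ (B := B)).1 * (e₁ (B := B)).2) _ _
  rw [← mul_assoc (P f G (e₁ (B := B)) y), hc.eq, mul_inv_cancel_right]
  exact congrArg₂ (· * ·) (P_congr f G (sqMul_comm _ _) _) (P_congr f G (sqMul_comm _ _) _)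

theorem br_mul_left (x x' y : LieS.Lie G B f) : br f G (x * x') y = br f G x y * br f G x' y := by
  refine P_e₁e₂_injective f G ?_
  rw [mul_comm_lie f G (br f G x y), P_mul, P_congr f G (c' := sqMul (e₂ (B := B)).1 (e₁ (B := B))) (sqMul_comm _ _), ← comm_P,
    P_mul, commutatorElement_mul_left_eq_conj_mul, comm_P, comm_P,
    (commute_P f G _ _ (by simp only [sqMul]; linear_combination (e₁ (B := B)).1 * (e₂ (B := B)).2) x (br f G x' y) :
      Commute (P f G (e₂ (B := B)) x) (P f G (sqMul (e₂ (B := B)).1 (e₁ (B := B))) (br f G x' y))).eq,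
    mul_inv_cancel_right]
  exact congrArg₂ (· * ·) (P_congr f G (sqMul_comm _ _) _) (P_congr f G (sqMul_comm _ _) _)

theorem br_smul_right (b : B) (x y : LieS.Lie G B f) : br f G x (b • y) = b • br f G x y := by
  refine P_e₁e₂_injective f G ?_
  rw [P_congr f G (c' := sqMul (e₂ (B := B)).1 (e₁ (B := B))) (sqMul_comm _ _), ← comm_P, P_smul, comm_P, P_smul]
  exact P_congr f G (by simp [sqMul]; ring) _

theorem br_smul_left (b : B) (x y : LieS.Lie G B f) : br f G (b • x) y = b • br f G x y := by
  refine P_e₁e₂_injective f G ?_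
  rw [P_congr f G (c' := sqMul (e₂ (B := B)).1 (e₁ (B := B))) (sqMul_comm _ _), ← comm_P, P_smul, comm_P, P_smul]
  exact P_congr f G (by simp [sqMul]; ring) _

/-- The group identity behind the Jacobi identity. -/
theorem jacobi_group {H : Type*} [Group H] {X Y Z U p Q : H} (hU : ⁅Y, Z⁆ = U) (hp : ⁅X, Y⁆ = p) (hQ : ⁅X, Z⁆ = Q)
    (h₁ : Commute Q U) (h₂ : Commute p U) (h₃ : Commute p Q) (h₄ : Commute p ⁅Y, Q⁆)
    (h₅ : Commute Q ⁅p, Z⁆) (h₆ : Commute U ⁅p, Z⁆) :
    ⁅X, U⁆ = ⁅Y, Q⁆ * ⁅p, Z⁆ := by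
  have e1 : X * Y * X⁻¹ = p * Y := by rw [← hp, commutatorElement_def]; group
  have e2 : X * Z * X⁻¹ = Q * Z := by rw [← hQ, commutatorElement_def]; group
  have e3 : ⁅Y, Q * Z⁆ = ⁅Y, Q⁆ * U := by
    have : ⁅Y, Q * Z⁆ = ⁅Y, Q⁆ * (Q * ⁅Y, Z⁆ * Q⁻¹) := by simp only [commutatorElement_def]; group
    rw [this, hU, h₁.eq, mul_inv_cancel_right]
  have e4 : ⁅p, Q * Z⁆ = ⁅p, Z⁆ := by
    have : ⁅p, Q * Z⁆ = ⁅p, Q⁆ * (Q * ⁅p, Z⁆ * Q⁻¹) := by simp only [commutatorElement_def]; group
    rw [this, commutatorElement_eq_one_iff_commute.2 h₃, h₅.eq, mul_inv_cancel_right, one_mul]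
  have e5 : ⁅X, U⁆ * U = X * U * X⁻¹ := by rw [commutatorElement_def]; group
  have e6 : X * U * X⁻¹ = ⁅X * Y * X⁻¹, X * Z * X⁻¹⁆ := by rw [← hU, conjugate_commutatorElement]
  have e7 : ⁅p * Y, Q * Z⁆ = (p * ⁅Y, Q * Z⁆ * p⁻¹) * ⁅p, Q * Z⁆ := by simp only [commutatorElement_def]; group
  rw [e1, e2, e7, e3, e4, (h₄.mul_right h₂).eq, mul_inv_cancel_right] at e6
  rw [e6] at e5
  apply mul_right_cancel (b := U)
  rw [e5, mul_assoc, mul_assoc, h₆.eq]

/-- The retraction of the dual numbers over an algebra. -/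
def retDual (r : C →ₐ[B] B) : DualNumber C →ₐ[B] B where
  toFun w := r w.fst
  map_one' := by simp
  map_mul' x y := by simp
  map_zero' := by simp
  map_add' x y := by simp
  commutes' b := by simp [TrivSqZeroExt.algebraMap_eq_inl']

/-- Constants of the dual numbers. -/
def inlSq (a : Sq C) : Sq (DualNumber C) := ⟨TrivSqZeroExt.inl a.1, by
  rw [← TrivSqZeroExt.inl_mul, a.2, TrivSqZeroExt.inl_zero]⟩

theorem br_jacobi_aux (a₀ b₀ : Sq C) (r : C →ₐ[B] B) (hr : r a₀.1 = 0)
    (hinj : ∀ t : B, algebraMap B C t * (a₀.1 * b₀.1) = 0 → t = 0) (x y z : LieS.Lie G B f) :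
    br f G x (br f G y z) = br f G (br f G x y) z * br f G y (br f G x z) := by
  let a : Sq (DualNumber C) := inlSq a₀
  let b : Sq (DualNumber C) := inlSq b₀
  let c : Sq (DualNumber C) := ⟨DualNumber.eps, DualNumber.eps_mul_eps⟩
  let bc := sqMul b.1 c
  let ab := sqMul a.1 b
  let ac := sqMul a.1 c
  let abc := sqMul a.1 bc
  refine P_injective f G abc (retDual r) ?_ (fun t ht => hinj t ?_) ?_
  · simp [retDual, abc, bc, sqMul, a, b, c, inlSq]
  · simpa [abc, bc, sqMul, a, b, c, inlSq, TrivSqZeroExt.algebraMap_eq_inl'] using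
      congrArg TrivSqZeroExt.snd ht
  have ha := a.2
  have hb := b.2
  have hc := c.2
  have hL : ⁅P f G a x, P f G bc (br f G y z)⁆ = P f G abc (br f G x (br f G y z)) := comm_P f G _ _ _ _
  have hR₁ : ⁅P f G b y, P f G ac (br f G x z)⁆ = P f G abc (br f G y (br f G x z)) :=
    (comm_P f G _ _ _ _).trans (P_congr f G (by simp [abc, bc, ac, sqMul]; ring) _)
  have hR₂ : ⁅P f G ab (br f G x y), P f G c z⁆ = P f G abc (br f G (br f G x y) z) :=
    (comm_P f G _ _ _ _).trans (P_congr f G (by simp [abc, bc, ab, sqMul]; ring) _)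
  rw [mul_comm_lie f G (br f G (br f G x y) z), P_mul, ← hL, ← hR₂, ← hR₁]
  refine jacobi_group (comm_P f G c b y z) (comm_P f G b a x y) (comm_P f G c a x z) ?_ ?_ ?_ ?_ ?_ ?_
  · exact commute_P f G _ _ (by simp only [sqMul, ab, ac, bc]; linear_combination (a.1 * b.1) * hc) _ _
  · exact commute_P f G _ _ (by simp only [sqMul, ab, ac, bc]; linear_combination (a.1 * c.1) * hb) _ _
  · exact commute_P f G _ _ (by simp only [sqMul, ab, ac, bc]; linear_combination (b.1 * c.1) * ha) _ _
  · rw [hR₁]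
    exact commute_P f G _ _ (by simp only [abc, bc, ab, sqMul]; linear_combination (b.1 * b.1 * c.1) * ha) _ _
  · rw [hR₂]
    exact commute_P f G _ _ (by simp only [abc, bc, ac, sqMul]; linear_combination (b.1 * c.1 * c.1) * ha) _ _
  · rw [hR₂]
    exact commute_P f G _ _ (by simp only [abc, bc, sqMul]; linear_combination (a.1 * c.1 * c.1) * hb) _ _

theorem br_jacobi (x y z : LieS.Lie G B f) :
    br f G x (br f G y z) = br f G (br f G x y) z * br f G y (br f G x z) :=
  br_jacobi_aux f G (e₁ (B := B)) (e₂ (B := B)) (ret2 (B := B)) (by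
    show (e₁ (B := B)).1.fst.fst = 0
    simp [e₁]) (fun t ht => by
    simpa [e₁, e₂, TrivSqZeroExt.algebraMap_eq_inl'] using congrArg (fun w : LieS.D2 B => w.snd.snd) ht) x y z

/-- The Lie algebra. -/
theorem exists_model : ∃ (L : Type u) (_ : LieRing L) (_ : LieAlgebra B L), Nonempty (LieS.Model G B f L) := by
  letI hg : AddCommGroup (Additive (LieS.Lie G B f)) :=
    { (inferInstance : AddGroup (Additive (LieS.Lie G B f))) with
      add_comm := fun x y => mul_comm_lie f G x.toMul y.toMul }
  letI hm : Module B (Additive (LieS.Lie G B f)) :=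
    { smul := fun b x => Additive.ofMul (b • x.toMul)
      one_smul := fun x => congrArg Additive.ofMul (xv_injective f G (by
        show LieS.scale B f 1 ≫ (x.toMul).1 = (x.toMul).1
        rw [Sweep9Lib.scale_one, Category.id_comp]))
      mul_smul := fun a b x => congrArg Additive.ofMul (xv_injective f G (by
        show xv f G ((a * b) • x.toMul) = xv f G (a • b • x.toMul)
        rw [← P_eps0, ← P_eps0, P_smul, P_smul, P_smul]
        exact P_congr f G (by simp [sqMul]; ring) _))
      smul_zero := fun b => congrArg Additive.ofMul (xv_injective f G (by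
        show xv f G (b • (1 : LieS.Lie G B f)) = xv f G 1
        rw [xv_smul, xv_one, MonObj.comp_one]))
      smul_add := fun b x y => congrArg Additive.ofMul (xv_injective f G (by
        show xv f G (b • (x.toMul * y.toMul)) = xv f G (b • x.toMul * b • y.toMul)
        rw [xv_smul, xv_mul, xv_mul, xv_smul, xv_smul, MonObj.comp_mul]))
      add_smul := fun a b x => congrArg Additive.ofMul (Subtype.ext (Sweep9Lib.scale_add_comp f x.toMul.2 a b))
      zero_smul := fun x => congrArg Additive.ofMul (Subtype.ext (Sweep9Lib.scale_zero_comp f x.toMul.2)) }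
  letI hb : Bracket (Additive (LieS.Lie G B f)) (Additive (LieS.Lie G B f)) :=
    ⟨fun x y => Additive.ofMul (br f G x.toMul y.toMul)⟩
  letI hr : LieRing (Additive (LieS.Lie G B f)) :=
    { hg, hb with
      add_lie := fun x y z => congrArg Additive.ofMul (br_mul_left f G x.toMul y.toMul z.toMul)
      lie_add := fun x y z => congrArg Additive.ofMul (br_mul_right f G x.toMul y.toMul z.toMul)
      lie_self := fun x => congrArg Additive.ofMul (br_self f G x.toMul)
      leibniz_lie := fun x y z => congrArg Additive.ofMul (br_jacobi f G x.toMul y.toMul z.toMul) }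
  letI ha : LieAlgebra B (Additive (LieS.Lie G B f)) :=
    { hm with
      lie_smul := fun b x y => congrArg Additive.ofMul (br_smul_right f G b x.toMul y.toMul) }
  exact ⟨Additive (LieS.Lie G B f), hr, ha, ⟨
    { e :=
        { toFun := fun x => x.toAdd.toMul
          invFun := fun x => Multiplicative.ofAdd (Additive.ofMul x)
          left_inv := fun _ => rfl
          right_inv := fun _ => rfl
          map_mul' := fun _ _ => rfl }
      e_smul := fun _ _ => rfl
      e_lie := fun x y => br_spec f G x.toMul y.toMul }⟩⟩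

end LieBracketLib
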