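import Groth.Agent.Sweep9Lib.LieAdd
import Groth.Agent.PushLib.SpecPush

/-!
Dual number points of a group scheme with values in an algebra: the bracket exists.
-/

set_option autoImplicit false

noncomputable section

universe u

open CategoryTheory Limits AlgebraicGeometry MonoidalCategory CartesianMonoidalCategory
open Groth.Agent
open scoped MonObj commutatorElement

namespace LieBracketLib

variable {B : Type u} [CommRing B] {S : Scheme.{u}} (f : Spec (CommRingCat.of B) ⟶ S)

/-- The spectrum of an algebra, over the base. -/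
abbrev opt (C : Type u) [CommRing C] [Algebra B C] : Over S :=
  Over.mk (Spec.map (CommRingCat.ofHom (algebraMap B C)) ≫ f)

variable {C C' C'' : Type u} [CommRing C] [Algebra B C] [CommRing C'] [Algebra B C'] [CommRing C''] [Algebra B C'']

/-- The morphism induced by an algebra map. -/
def amap (φ : C →ₐ[B] C') : opt f C' ⟶ opt f C :=
  Over.homMk (Spec.map (CommRingCat.ofHom φ.toRingHom)) (by
    change Spec.map _ ≫ Spec.map _ ≫ f = Spec.map _ ≫ f
    rw [← Category.assoc, LieS.specMap_comp, show φ.toRingHom.comp (algebraMap B C) = algebraMap B C' from φ.comp_algebraMap])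

theorem amap_comp (φ : C →ₐ[B] C') (ψ : C' →ₐ[B] C'') : amap f ψ ≫ amap f φ = amap f (ψ.comp φ) := by
  ext1
  change Spec.map _ ≫ Spec.map _ = Spec.map _
  rw [LieS.specMap_comp]
  rfl

/-- Elements of square zero. -/
abbrev Sq (C : Type u) [CommRing C] : Type u := {c : C // c * c = 0}

variable (B) in
/-- The map out of the dual numbers given by an element of square zero. -/
def dHom (c : Sq C) : DualNumber B →ₐ[B] C where
  __ := LieS.dualHom (algebraMap B C) c.1 c.2
  commutes' b := by simp [TrivSqZeroExt.algebraMap_eq_inl']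

theorem dHom_apply (c : Sq C) (z : DualNumber B) :
    dHom B c z = algebraMap B C z.fst + algebraMap B C z.snd * c.1 := rfl

theorem dHom_eps (c : Sq C) : dHom B c DualNumber.eps = c.1 := by
  simp [dHom_apply]

/-- Image of an element of square zero. -/
def sqMap (φ : C →ₐ[B] C') (c : Sq C) : Sq C' := ⟨φ c.1, by rw [← map_mul, c.2, map_zero]⟩

/-- Product with an element of square zero. -/
def sqMul (a : C) (c : Sq C) : Sq C := ⟨a * c.1, by rw [mul_mul_mul_comm, c.2, mul_zero]⟩

theorem amap_left (φ : C →ₐ[B] C') : (amap f φ).left = Spec.map (CommRingCat.ofHom φ.toRingHom) := rfl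

theorem amap_id : amap f (AlgHom.id B C) = 𝟙 _ := by
  ext1
  exact Spec.map_id (CommRingCat.of C)

theorem amap_ext_left {φ : C →ₐ[B] C'} {m : opt f C' ⟶ opt f C} {h : C →+* C'}
    (hm : m.left = Spec.map (CommRingCat.ofHom h)) (e : ∀ z, h z = φ z) : m = amap f φ := by
  ext1
  rw [hm, amap_left]
  exact congrArg (fun t => Spec.map (CommRingCat.ofHom t)) (RingHom.ext e)

variable (G : Over S) [GrpObj G]

/-- A tangent vector as a point with values in the dual numbers. -/
def xv (x : LieS.Lie G B f) : opt f (DualNumber B) ⟶ G := x.1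

variable (B) in
/-- Rescaling. -/
def scAlg (b : B) : DualNumber B →ₐ[B] DualNumber B :=
  dHom B (sqMul (algebraMap B (DualNumber B) b) ⟨DualNumber.eps, DualNumber.eps_mul_eps⟩)

theorem scale_left (b : B) : (LieS.scale B f b).left = Spec.map (CommRingCat.ofHom (LieS.scaleHom b)) := rfl

theorem xv_smul (b : B) (x : LieS.Lie G B f) : xv f G (b • x) = amap f (scAlg B b) ≫ xv f G x := by
  rw [← amap_ext_left f (φ := scAlg B b) (m := LieS.scale B f b) (scale_left f b) fun z => rfl]
  rfl

theorem xv_mul (x y : LieS.Lie G B f) : xv f G (x * y) = xv f G x * xv f G y := rfl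

theorem xv_one : xv f G 1 = 1 := rfl

/-- The zero section, from the spectrum of the algebra. -/
def jB : opt f B ⟶ LieS.pt B f :=
  Over.homMk (𝟙 (Spec (CommRingCat.of B))) (by
    change 𝟙 _ ≫ f = Spec.map (CommRingCat.ofHom (algebraMap B B)) ≫ f
    rw [Category.id_comp, Algebra.algebraMap_self, CommRingCat.ofHom_id]
    erw [Spec.map_id, Category.id_comp])

instance : IsIso (jB f) := by
  haveI : IsIso ((Over.forget S).map (jB f)) := inferInstanceAs (IsIso (𝟙 _))
  exact isIso_of_reflects_iso (jB f) (Over.forget S)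

theorem zero_xv (x : LieS.Lie G B f) : amap f (TrivSqZeroExt.fstHom B B B) ≫ xv f G x = 1 := by
  rw [show amap f (TrivSqZeroExt.fstHom B B B) = jB f ≫ LieS.zeroSec B f from Over.OverMorphism.ext (Category.id_comp _).symm]
  refine (Category.assoc _ _ _).trans ?_
  exact (congrArg (fun t => jB f ≫ t) (show LieS.zeroSec B f ≫ (x.1 : LieS.dpt B f ⟶ G) = 1 from x.2)).trans
    (MonObj.comp_one _)

/-- The point with values in `C` attached to an element of square zero. -/
def P (c : Sq C) (x : LieS.Lie G B f) : opt f C ⟶ G := amap f (dHom B c) ≫ xv f G x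

theorem amap_P (φ : C →ₐ[B] C') (c : Sq C) (x : LieS.Lie G B f) :
    amap f φ ≫ P f G c x = P f G (sqMap φ c) x := by
  rw [P, P, ← Category.assoc, amap_comp]
  congr 2
  exact AlgHom.ext fun z => by simp [dHom_apply, sqMap]

theorem P_mul (c : Sq C) (x y : LieS.Lie G B f) : P f G c (x * y) = P f G c x * P f G c y := by
  rw [P, P, P, xv_mul, MonObj.comp_mul]

theorem P_one (c : Sq C) : P f G c 1 = 1 := by rw [P, xv_one, MonObj.comp_one]

theorem P_smul (c : Sq C) (b : B) (x : LieS.Lie G B f) :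
    P f G c (b • x) = P f G (sqMul (algebraMap B C b) c) x := by
  rw [P, P, xv_smul, ← Category.assoc, amap_comp]
  congr 2
  refine AlgHom.ext fun z => ?_
  simp [scAlg, dHom_apply, sqMul, TrivSqZeroExt.algebraMap_eq_inl']
  ring

theorem P_zero (c : Sq C) (hc : c.1 = 0) (x : LieS.Lie G B f) : P f G c x = 1 := by
  have h : dHom B c = (Algebra.ofId B C).comp (TrivSqZeroExt.fstHom B B B) :=
    AlgHom.ext fun w => by simp [dHom_apply, hc, Algebra.ofId_apply]
  rw [P, h, ← amap_comp, Category.assoc, zero_xv, MonObj.comp_one]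

theorem P_congr {c c' : Sq C} (h : c.1 = c'.1) (x : LieS.Lie G B f) : P f G c x = P f G c' x := by
  rw [Subtype.ext h]

theorem P_injective (c : Sq C) (r : C →ₐ[B] B) (hr : r c.1 = 0)
    (hc : ∀ t : B, algebraMap B C t * c.1 = 0 → t = 0) {x y : LieS.Lie G B f}
    (h : P f G c x = P f G c y) : x = y := by
  apply Subtype.ext
  ext1
  refine Sweep9Lib.hom_ext_of_jointly_injective (C := CommRingCat.of (DualNumber B)) (D := fun _ => CommRingCat.of C)
    (fun _ : Unit => CommRingCat.ofHom (dHom B c).toRingHom) ?_ ?_ x.1.left y.1.left ?_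
  · intro z hz
    have h0 : dHom B c z = 0 := hz ()
    have h1 : z.fst = 0 := by
      simpa [dHom_apply, hr] using congrArg r h0
    refine TrivSqZeroExt.ext h1 (hc _ ?_)
    simpa [dHom_apply, h1] using h0
  · intro q
    refine ⟨(), PrimeSpectrum.comap r.toRingHom (PrimeSpectrum.comap (algebraMap B (DualNumber B)) q), ?_⟩
    refine PrimeSpectrum.ext (Ideal.ext fun z => ?_)
    change algebraMap B (DualNumber B) (r (dHom B c z)) ∈ q.1 ↔ z ∈ q.1
    rw [show r (dHom B c z) = z.fst by simp [dHom_apply, hr]]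
    have hr : TrivSqZeroExt.inr z.snd ∈ q.1 :=
      q.2.mem_of_pow_mem 2 (by rw [pow_two, TrivSqZeroExt.inr_mul_inr]; exact q.1.zero_mem)
    rw [← Ideal.add_mem_iff_left (a := algebraMap B (DualNumber B) z.fst) _ hr,
      TrivSqZeroExt.algebraMap_eq_inl', Algebra.algebraMap_self, RingHom.id_apply,
      TrivSqZeroExt.inl_fst_add_inr_snd_eq]
  · intro _
    exact congrArg Over.Hom.left h

/-! ### The iterated dual numbers -/

/-- The first coordinate. -/
def e₁ : Sq (LieS.D2 B) := ⟨TrivSqZeroExt.inl DualNumber.eps, by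
  rw [← TrivSqZeroExt.inl_mul, DualNumber.eps_mul_eps, TrivSqZeroExt.inl_zero]⟩

/-- The second coordinate. -/
def e₂ : Sq (LieS.D2 B) := ⟨DualNumber.eps, DualNumber.eps_mul_eps⟩

theorem optdual_w (C : Type u) [CommRing C] [Algebra B C] :
    𝟙 (Spec (CommRingCat.of (DualNumber C))) ≫ (Spec.map (CommRingCat.ofHom (algebraMap C (DualNumber C))) ≫
      Spec.map (CommRingCat.ofHom (algebraMap B C)) ≫ f) =
      Spec.map (CommRingCat.ofHom (algebraMap B (DualNumber C))) ≫ f := by
  rw [Category.id_comp, ← Category.assoc, LieS.specMap_comp, LieS.algebraMap_comp_eq]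

/-- Comparison with the dual numbers over an algebra. -/
def jC (C : Type u) [CommRing C] [Algebra B C] :
    opt f (DualNumber C) ⟶ LieS.dpt C (Spec.map (CommRingCat.ofHom (algebraMap B C)) ≫ f) :=
  Over.homMk (𝟙 (Spec (CommRingCat.of (DualNumber C)))) (optdual_w f C)

theorem jC_left (C : Type u) [CommRing C] [Algebra B C] :
    (jC f C).left = 𝟙 (Spec (CommRingCat.of (DualNumber C))) := rfl

theorem isIso_jC (C : Type u) [CommRing C] [Algebra B C] : IsIso (jC f C) := by
  have hl : IsIso (jC f C).left := by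
    rw [jC_left]
    exact IsIso.id _
  haveI : IsIso ((Over.forget S).map (jC f C)) := hl
  exact isIso_of_reflects_iso (jC f C) (Over.forget S)

theorem jC_comp (C E : Type u) [CommRing C] [Algebra B C] [CommRing E] [Algebra B E]
    (m : LieS.dpt C (Spec.map (CommRingCat.ofHom (algebraMap B C)) ≫ f) ⟶ opt f E)
    (h : E →+* DualNumber C) (φ : E →ₐ[B] DualNumber C) (hm : m.left = Spec.map (CommRingCat.ofHom h))
    (e : ∀ z, h z = φ z) : jC f C ≫ m = amap f φ := by
  refine amap_ext_left f (h := h) ?_ e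
  rw [Over.comp_left, jC_left]
  exact (Category.id_comp _).trans hm

/-- Comparison with the iterated dual numbers. -/
def jD : opt f (LieS.D2 B) ⟶ LieS.d2pt B f := jC f (DualNumber B)

instance : IsIso (jD f) := isIso_jC f (DualNumber B)

theorem mulMap_left : (LieS.mulMap B f).left = Spec.map (CommRingCat.ofHom (LieS.mulHom B)) := rfl

theorem dptMap_left {C : Type u} [CommRing C] (h : B →+* C) :
    (LieS.dptMap f h).left = Spec.map (CommRingCat.ofHom (LieS.bcHom h)) := rfl

theorem proj_left (C : Type u) [CommRing C] (g : Spec (CommRingCat.of C) ⟶ S) :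
    (LieS.proj C g).left = Spec.map (CommRingCat.ofHom (algebraMap C (DualNumber C))) := rfl

theorem jD_mulMap : jD f ≫ LieS.mulMap B f = amap f (dHom B (sqMul (e₁ (B := B)).1 e₂)) :=
  jC_comp f (DualNumber B) (DualNumber B) (LieS.mulMap B f) _ _ (mulMap_left f) fun z => by
    refine TrivSqZeroExt.ext (TrivSqZeroExt.ext ?_ ?_) (TrivSqZeroExt.ext ?_ ?_) <;>
      simp [LieS.mulHom, dHom_apply, sqMul, e₁, e₂, TrivSqZeroExt.algebraMap_eq_inl']

theorem jD_proj : jD f ≫ LieS.proj (DualNumber B) (LieS.dpt B f).hom = amap f (dHom B (e₁ (B := B))) :=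
  jC_comp f (DualNumber B) (DualNumber B) (LieS.proj (DualNumber B) (LieS.dpt B f).hom) _ _
    (proj_left (DualNumber B) _) fun z => by
    refine TrivSqZeroExt.ext (TrivSqZeroExt.ext ?_ ?_) (TrivSqZeroExt.ext ?_ ?_) <;>
      simp [dHom_apply, e₁, TrivSqZeroExt.algebraMap_eq_inl']

theorem jD_dptMap : jD f ≫ LieS.dptMap f (algebraMap B (DualNumber B)) = amap f (dHom B (e₂ (B := B))) :=
  jC_comp f (DualNumber B) (DualNumber B) (LieS.dptMap f (algebraMap B (DualNumber B))) _ _
    (dptMap_left f _) fun z => by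
    refine TrivSqZeroExt.ext (TrivSqZeroExt.ext ?_ ?_) (TrivSqZeroExt.ext ?_ ?_) <;>
      simp [LieS.bcHom, dHom_apply, e₂, TrivSqZeroExt.algebraMap_eq_inl']

theorem isBracket_iff (x y z : LieS.Lie G B f) :
    LieS.IsBracket G B f x y z ↔ P f G (sqMul (e₁ (B := B)).1 (e₂ (B := B))) z = ⁅P f G (e₂ (B := B)) x, P f G (e₁ (B := B)) y⁆ := by
  have hz : jD f ≫ LieS.mulMap B f ≫ z.1 = P f G (sqMul (e₁ (B := B)).1 (e₂ (B := B))) z :=
    (Category.assoc _ _ _).symm.trans (congrArg (fun t => t ≫ xv f G z) (jD_mulMap f))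
  have hx : jD f ≫ LieS.dptMap f (algebraMap B (DualNumber B)) ≫ x.1 = P f G (e₂ (B := B)) x :=
    (Category.assoc _ _ _).symm.trans (congrArg (fun t => t ≫ xv f G x) (jD_dptMap f))
  have hy : jD f ≫ LieS.proj (DualNumber B) (LieS.dpt B f).hom ≫ y.1 = P f G (e₁ (B := B)) y :=
    (Category.assoc _ _ _).symm.trans (congrArg (fun t => t ≫ xv f G y) (jD_proj f))
  rw [LieS.IsBracket, ← cancel_epi (jD f)]
  simp only [MonObj.comp_mul, GrpObj.comp_inv, commutatorElement_def]
  rw [hz, hx, hy]

/-- The axes of the iterated dual numbers. -/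
def pAxes : LieS.D2 B →ₐ[B] TrivSqZeroExt B (B × B) where
  toFun a := TrivSqZeroExt.inl a.fst.fst + TrivSqZeroExt.inr (a.fst.snd, a.snd.fst)
  map_one' := by ext <;> simp
  map_mul' a b := by
    ext <;> simp <;> ring
  map_zero' := by ext <;> simp
  map_add' a b := by
    ext <;> simp
  commutes' b := by
    ext <;> simp [TrivSqZeroExt.algebraMap_eq_inl']

theorem pAxes_surjective : Function.Surjective (pAxes (B := B)) := fun a =>
  ⟨TrivSqZeroExt.inl (TrivSqZeroExt.inl a.fst + TrivSqZeroExt.inr a.snd.1) +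
      TrivSqZeroExt.inr (TrivSqZeroExt.inl a.snd.2), by ext <;> simp [pAxes]⟩

/-- The axes. -/
def axisMap (l : B × B →ₗ[B] B) : TrivSqZeroExt B (B × B) →ₐ[B] DualNumber B := TrivSqZeroExt.map l

theorem axis_ext {X : Over S} (a b : opt f (TrivSqZeroExt B (B × B)) ⟶ X)
    (h1 : amap f (axisMap (LinearMap.fst B B B)) ≫ a = amap f (axisMap (LinearMap.fst B B B)) ≫ b)
    (h2 : amap f (axisMap (LinearMap.snd B B B)) ≫ a = amap f (axisMap (LinearMap.snd B B B)) ≫ b) : a = b :=
  Sweep9Lib.hom_ext_axes f a b h1 h2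

theorem fst_e₁ : (sqMap ((axisMap (LinearMap.fst B B B)).comp (pAxes (B := B))) (e₁ (B := B))).1 = DualNumber.eps := by
  ext <;> simp [sqMap, axisMap, pAxes, e₁]

theorem fst_e₂ : (sqMap ((axisMap (LinearMap.fst B B B)).comp (pAxes (B := B))) (e₂ (B := B))).1 = 0 := by
  ext <;> simp [sqMap, axisMap, pAxes, e₂]

theorem snd_e₁ : (sqMap ((axisMap (LinearMap.snd B B B)).comp (pAxes (B := B))) (e₁ (B := B))).1 = 0 := by
  ext <;> simp [sqMap, axisMap, pAxes, e₁]

theorem snd_e₂ : (sqMap ((axisMap (LinearMap.snd B B B)).comp (pAxes (B := B))) (e₂ (B := B))).1 = DualNumber.eps := by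
  ext <;> simp [sqMap, axisMap, pAxes, e₂]

/-- The unit point of the dual numbers is the identity. -/
def eps0 : Sq (DualNumber B) := ⟨DualNumber.eps, DualNumber.eps_mul_eps⟩

theorem P_eps0 (x : LieS.Lie G B f) : P f G eps0 x = xv f G x := by
  rw [P, show dHom B (eps0 (B := B)) = AlgHom.id B _ from AlgHom.ext fun z => TrivSqZeroExt.ext
    (by simp [dHom_apply, eps0, TrivSqZeroExt.algebraMap_eq_inl'])
    (by simp [dHom_apply, eps0, TrivSqZeroExt.algebraMap_eq_inl']), amap_id, Category.id_comp]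

theorem exists_bracket (x y : LieS.Lie G B f) : ∃ z, LieS.IsBracket G B f x y z := by
  let c : opt f (LieS.D2 B) ⟶ G := ⁅P f G (e₂ (B := B)) x, P f G (e₁ (B := B)) y⁆
  have hmap : ∀ {C : Type u} [CommRing C] [Algebra B C] (φ : LieS.D2 B →ₐ[B] C),
      amap f φ ≫ c = ⁅P f G (sqMap φ (e₂ (B := B))) x, P f G (sqMap φ (e₁ (B := B))) y⁆ := fun φ => by
    simp only [c, commutatorElement_def, MonObj.comp_mul, GrpObj.comp_inv, amap_P]
  have hc : amap f pAxes ≫ c = 1 := by
    refine axis_ext f _ _ ?_ ?_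
    · rw [MonObj.comp_one, ← Category.assoc, amap_comp, hmap, P_zero f G _ (fst_e₂ (B := B)), commutatorElement_one_left]
    · rw [MonObj.comp_one, ← Category.assoc, amap_comp, hmap, P_zero f G _ (snd_e₁ (B := B)), commutatorElement_one_right]
  let q : B →ₐ[B] TrivSqZeroExt B (B × B) := Algebra.ofId B _
  let F : PushLib.FibSq (DualNumber B) B (LieS.D2 B) (TrivSqZeroExt B (B × B)) :=
    { u := (TrivSqZeroExt.fstHom B B B).toRingHom
      v := (dHom B (sqMul (e₁ (B := B)).1 (e₂ (B := B)))).toRingHom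
      q := q.toRingHom
      p := pAxes.toRingHom
      w := fun z => by
        change q z.fst = pAxes (dHom B (sqMul (e₁ (B := B)).1 (e₂ (B := B))) z)
        ext <;> simp [q, pAxes, dHom_apply, sqMul, e₁, e₂, Algebra.ofId_apply, TrivSqZeroExt.algebraMap_eq_inl']
      surj := pAxes_surjective
      inj := fun a b h1 h2 => by
        have h3 := congrArg (fun w : LieS.D2 B => w.snd.snd) h2
        refine TrivSqZeroExt.ext h1 ?_
        simpa [dHom_apply, sqMul, e₁, e₂, TrivSqZeroExt.algebraMap_eq_inl'] using h3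
      lift := fun b a h => by
        change q b = pAxes a at h
        refine ⟨TrivSqZeroExt.inl b + TrivSqZeroExt.inr a.snd.snd, by simp, ?_⟩
        have h1 := congrArg TrivSqZeroExt.fst h
        have h2 := congrArg (fun w => (TrivSqZeroExt.snd w).1) h
        have h3 := congrArg (fun w => (TrivSqZeroExt.snd w).2) h
        simp [q, pAxes, Algebra.ofId_apply, TrivSqZeroExt.algebraMap_eq_inl'] at h1 h2 h3
        change dHom B (sqMul (e₁ (B := B)).1 (e₂ (B := B))) _ = a
        refine TrivSqZeroExt.ext (TrivSqZeroExt.ext ?_ ?_) (TrivSqZeroExt.ext ?_ ?_) <;>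
          simp [dHom_apply, sqMul, e₁, e₂, TrivSqZeroExt.algebraMap_eq_inl', h1, ← h2, ← h3] }
  let one0 : opt f B ⟶ G := 1
  have hq : PushLib.specMap F.q ≫ one0.left = PushLib.specMap F.p ≫ c.left := by
    have := congrArg Over.Hom.left ((MonObj.comp_one (amap f q)).trans hc.symm)
    exact this
  obtain ⟨k, hk1, hk2⟩ := F.exists_desc one0.left c.left hq
  have hw : k ≫ G.hom = Spec.map (CommRingCat.ofHom (algebraMap B (DualNumber B))) ≫ f := by
    refine F.hom_ext ?_ ?_
    · rw [← Category.assoc, hk1]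
      exact (Over.w one0).trans (Over.w (amap f (TrivSqZeroExt.fstHom B B B))).symm
    · rw [← Category.assoc, hk2]
      exact (Over.w c).trans (Over.w (amap f (dHom B (sqMul (e₁ (B := B)).1 (e₂ (B := B)))))).symm
  let zv : LieS.dpt B f ⟶ G := Over.homMk k hw
  have hzero : LieS.zeroSec B f ≫ zv = 1 := by
    rw [← cancel_epi (jB f), MonObj.comp_one]
    ext1
    exact (Category.id_comp _).trans hk1
  refine ⟨⟨zv, hzero⟩, (isBracket_iff f G x y _).2 ?_⟩
  ext1
  exact hk2

end LieBracketLib
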